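import Mathlib.AlgebraicGeometry.Morphisms.FormallyUnramified
import Mathlib.AlgebraicGeometry.ResidueField

/-! Morphisms into an unramified scheme agreeing at a point agree near it. -/

set_option autoImplicit false
universe u
open AlgebraicGeometry CategoryTheory Limits

namespace Groth.Agent.EqNhdLib

theorem exists_nhd_eq {X Y S : Scheme.{u}} (p : Y ⟶ S) [FormallyUnramified p] [LocallyOfFiniteType p]
    (f g : X ⟶ Y) (hfg : f ≫ p = g ≫ p) (x : X)
    (h : X.fromSpecResidueField x ≫ f = X.fromSpecResidueField x ≫ g) :
    ∃ U : X.Opens, x ∈ U ∧ U.ι ≫ f = U.ι ≫ g := by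
  let l : X ⟶ pullback p p := pullback.lift f g hfg
  let d : Y ⟶ pullback p p := pullback.diagonal p
  have hd : IsOpenImmersion d := inferInstanceAs (IsOpenImmersion (pullback.diagonal p))
  refine ⟨l ⁻¹ᵁ d.opensRange, ?_, ?_⟩
  · change l x ∈ Set.range d
    have e : X.fromSpecResidueField x ≫ l = (X.fromSpecResidueField x ≫ f) ≫ d := by
      apply pullback.hom_ext
      · rw [Category.assoc, Category.assoc, pullback.diagonal_fst, Category.comp_id]
        exact congrArg (fun t => X.fromSpecResidueField x ≫ t) (pullback.lift_fst f g hfg)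
      · rw [Category.assoc, Category.assoc, pullback.diagonal_snd, Category.comp_id, h]
        exact congrArg (fun t => X.fromSpecResidueField x ≫ t) (pullback.lift_snd f g hfg)
    have hx : X.fromSpecResidueField x (IsLocalRing.closedPoint (X.residueField x)) = x :=
      Scheme.fromSpecResidueField_apply x _
    refine ⟨(X.fromSpecResidueField x ≫ f) (IsLocalRing.closedPoint (X.residueField x)), ?_⟩
    have e' := congrArg (fun t : Spec (X.residueField x) ⟶ pullback p p =>
      t (IsLocalRing.closedPoint (X.residueField x))) e
    refine e'.symm.trans ?_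
    exact congrArg l hx
  · have hr : Set.range ((l ⁻¹ᵁ d.opensRange).ι ≫ l) ⊆ Set.range d := by
      rintro _ ⟨z, rfl⟩
      exact z.2
    have fac := IsOpenImmersion.lift_fac d ((l ⁻¹ᵁ d.opensRange).ι ≫ l) hr
    have e1 := fac =≫ pullback.fst p p
    have e2 := fac =≫ pullback.snd p p
    simp only [l, d, Category.assoc, pullback.diagonal_fst, pullback.diagonal_snd,
      pullback.lift_fst, pullback.lift_snd, Category.comp_id] at e1 e2
    exact e1.symm.trans e2

end Groth.Agent.EqNhdLib
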